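import Mathlib

set_option autoImplicit false

namespace Cfsg.Agent.Lib.Helper20

universe u

/-- class-2 commutation, step -/
theorem pow_mul_comm_central {G : Type*} [Group G] {a b s : G} (h : b * a = a * b * s)
    (hsb : Commute s b) (n : ℕ) : b ^ n * a = a * b ^ n * s ^ n := by
  induction n with
  | zero => simp
  | succ n ih =>
    calc b ^ (n + 1) * a = b ^ n * (b * a) := by rw [pow_succ, mul_assoc]
      _ = b ^ n * (a * b * s) := by rw [h]
      _ = (b ^ n * a) * b * s := by simp only [mul_assoc]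
      _ = (a * b ^ n * s ^ n) * b * s := by rw [ih]
      _ = a * b ^ n * (s ^ n * b) * s := by simp only [mul_assoc]
      _ = a * b ^ n * (b * s ^ n) * s := by rw [(hsb.pow_left n).eq]
      _ = a * b ^ (n + 1) * s ^ (n + 1) := by rw [pow_succ, pow_succ]; simp only [mul_assoc]

/-- class-2 power formula -/
theorem mul_pow_comm_central {G : Type*} [Group G] {a b s : G} (h : b * a = a * b * s)
    (hsa : Commute s a) (hsb : Commute s b) (n : ℕ) :
    (a * b) ^ n = a ^ n * b ^ n * s ^ (n.choose 2) := by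
  induction n with
  | zero => simp
  | succ n ih =>
    have h1 := pow_mul_comm_central h hsb n
    have hc : (n + 1).choose 2 = n + n.choose 2 := by
      rw [show 2 = 1 + 1 from rfl, Nat.choose_succ_succ', Nat.choose_one_right]
    calc (a * b) ^ (n + 1) = (a * b) ^ n * (a * b) := pow_succ _ _
      _ = a ^ n * b ^ n * s ^ (n.choose 2) * (a * b) := by rw [ih]
      _ = a ^ n * b ^ n * (s ^ (n.choose 2) * a) * b := by simp only [mul_assoc]
      _ = a ^ n * b ^ n * (a * s ^ (n.choose 2)) * b := by rw [(hsa.pow_left _).eq]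
      _ = a ^ n * (b ^ n * a) * (s ^ (n.choose 2) * b) := by simp only [mul_assoc]
      _ = a ^ n * (a * b ^ n * s ^ n) * (b * s ^ (n.choose 2)) := by
        rw [h1, (hsb.pow_left _).eq]
      _ = a ^ n * a * b ^ n * (s ^ n * b) * s ^ (n.choose 2) := by simp only [mul_assoc]
      _ = a ^ n * a * b ^ n * (b * s ^ n) * s ^ (n.choose 2) := by rw [(hsb.pow_left n).eq]
      _ = a ^ (n + 1) * b ^ (n + 1) * s ^ ((n + 1).choose 2) := by
        rw [hc, pow_succ, pow_succ, pow_add]; simp only [mul_assoc]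

/-- for odd `p`, the `p`-th power map is multiplicative on elements with a central commutator of
exponent `p`. -/
theorem mul_pow_prime_of_central_comm {G : Type*} [Group G] {p : ℕ} (hp : p.Prime) (hp2 : p ≠ 2)
    {a b s : G} (h : b * a = a * b * s) (hsa : Commute s a) (hsb : Commute s b) (hs : s ^ p = 1) :
    (a * b) ^ p = a ^ p * b ^ p := by
  rw [mul_pow_comm_central h hsa hsb p]
  have hdvd : p ∣ p.choose 2 :=
    hp.dvd_choose_self (by norm_num) (lt_of_le_of_ne hp.two_le (Ne.symm hp2))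
  obtain ⟨c, hc⟩ := hdvd
  rw [hc, pow_mul, hs, one_pow, mul_one]

/-- A noncyclic finite `p`-group, `p` odd, has a normal subgroup `⟨z₀, x⟩` of type `(p, p)` with
`z₀` central (auxiliary form for induction on the order). -/
theorem exists_normal_rank_two_aux {p : ℕ} [hp : Fact p.Prime] (hp2 : p ≠ 2) (n : ℕ) :
    ∀ (P : Type u) [Group P] [Finite P], Nat.card P = n → IsPGroup p P → ¬ IsCyclic P →
    ∃ z₀ x : P, z₀ ∈ Subgroup.center P ∧ orderOf z₀ = p ∧ x ^ p = 1 ∧
      x ∉ Subgroup.zpowers z₀ ∧ ∀ y : P, x⁻¹ * (y * x * y⁻¹) ∈ Subgroup.zpowers z₀ := by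
  induction n using Nat.strong_induction_on with
  | _ n ih =>
  intro P _ _ hn hP hnc
  have : Nontrivial P := by
    by_contra hnt
    rw [not_nontrivial_iff_subsingleton] at hnt
    exact hnc isCyclic_of_subsingleton
  have : Nontrivial (Subgroup.center P) := hP.center_nontrivial
  have hcp : IsPGroup p (Subgroup.center P) := hP.to_subgroup _
  have hdvd : p ∣ Nat.card (Subgroup.center P) := by
    rcases hcp.card_eq_or_dvd with h | h
    · have := Finite.one_lt_card (α := Subgroup.center P); omega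
    · exact h
  obtain ⟨c, hc⟩ := exists_prime_orderOf_dvd_card' p hdvd
  obtain ⟨z₁, hz₁⟩ : ∃ z₁ : P, z₁ = (c : P) := ⟨_, rfl⟩
  have hz₁c : z₁ ∈ Subgroup.center P := hz₁ ▸ c.2
  have hz₁o : orderOf z₁ = p := by rw [hz₁, Subgroup.orderOf_coe]; exact hc
  have hz₁p : z₁ ^ p = 1 := by
    have := pow_orderOf_eq_one z₁
    rwa [hz₁o] at this
  have hZc : ∀ t ∈ Subgroup.zpowers z₁, ∀ g : P, g * t = t * g := by
    intro t ht g
    exact Subgroup.mem_center_iff.mp ((Subgroup.zpowers_le.mpr hz₁c) ht) g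
  have hZn : (Subgroup.zpowers z₁).Normal := ⟨fun t ht g => by
    rw [hZc t ht g, mul_inv_cancel_right]; exact ht⟩
  have hZp : ∀ t ∈ Subgroup.zpowers z₁, t ^ p = 1 := by
    intro t ht
    obtain ⟨j, rfl⟩ := Subgroup.mem_zpowers_iff.mp ht
    rw [← zpow_natCast, ← zpow_mul, mul_comm, zpow_mul, zpow_natCast, hz₁p, one_zpow]
  have hZcard : Nat.card (Subgroup.zpowers z₁) = p := by rw [Nat.card_zpowers, hz₁o]
  by_cases hcyc : IsCyclic (P ⧸ Subgroup.zpowers z₁)
  · -- the quotient is cyclic: `P` is abelian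
    obtain ⟨g₀, hg₀⟩ := hcyc.exists_generator
    obtain ⟨w, rfl⟩ := QuotientGroup.mk_surjective g₀
    have hgen : ∀ g : P, ∃ i : ℤ, ∃ t ∈ Subgroup.zpowers z₁, g = w ^ i * t := by
      intro g
      obtain ⟨i, hi⟩ := Subgroup.mem_zpowers_iff.mp (hg₀ (QuotientGroup.mk g))
      refine ⟨i, (w ^ i)⁻¹ * g, ?_, (mul_inv_cancel_left _ _).symm⟩
      exact QuotientGroup.eq.mp hi
    have hz₁w : z₁ ∉ Subgroup.zpowers w := by
      intro hmem
      apply hnc
      rw [isCyclic_iff_exists_zpowers_eq_top]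
      refine ⟨w, ?_⟩
      rw [Subgroup.eq_top_iff']
      intro g
      obtain ⟨i, t, ht, rfl⟩ := hgen g
      exact Subgroup.mul_mem _ (Subgroup.zpow_mem_zpowers w i) ((Subgroup.zpowers_le.mpr hmem) ht)
    have hw1 : w ≠ 1 := by
      intro hw
      apply hnc
      rw [isCyclic_iff_exists_zpowers_eq_top]
      refine ⟨z₁, ?_⟩
      rw [Subgroup.eq_top_iff']
      intro g
      obtain ⟨i, t, ht, rfl⟩ := hgen g
      rw [hw, one_zpow, one_mul]; exact ht
    obtain ⟨k, hk⟩ := IsPGroup.iff_orderOf.mp hP w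
    have hpw : p ∣ orderOf w := by
      rw [hk]
      apply dvd_pow_self
      rintro rfl
      rw [pow_zero, orderOf_eq_one_iff] at hk
      exact hw1 hk
    obtain ⟨x, hx⟩ : ∃ x : P, x = w ^ (orderOf w / p) := ⟨_, rfl⟩
    have hxo : orderOf x = p := by
      rw [hx]; exact orderOf_pow_orderOf_div (orderOf_pos w).ne' hpw
    have hxw : x ∈ Subgroup.zpowers w := hx ▸ Subgroup.pow_mem _ (Subgroup.mem_zpowers w) _
    refine ⟨z₁, x, hz₁c, hz₁o, ?_, ?_, ?_⟩
    · have := pow_orderOf_eq_one x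
      rwa [hxo] at this
    · intro hxZ
      have heq : Subgroup.zpowers x = Subgroup.zpowers z₁ :=
        Subgroup.eq_of_le_of_card_ge (Subgroup.zpowers_le.mpr hxZ)
          (by rw [Nat.card_zpowers, Nat.card_zpowers, hxo, hz₁o])
      apply hz₁w
      have : z₁ ∈ Subgroup.zpowers x := by rw [heq]; exact Subgroup.mem_zpowers z₁
      exact (Subgroup.zpowers_le.mpr hxw) this
    · intro y
      obtain ⟨i, t, ht, rfl⟩ := hgen y
      have hcomm : Commute (w ^ i * t) x := by
        rw [hx]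
        exact Commute.mul_left (((Commute.refl w).zpow_left i).pow_right _) (hZc t ht _).symm
      rw [hcomm.eq, mul_inv_cancel_right, inv_mul_cancel]
      exact Subgroup.one_mem _
  · -- the quotient is not cyclic: induction
    have hlt : Nat.card (P ⧸ Subgroup.zpowers z₁) < n := by
      have h1 := Subgroup.card_eq_card_quotient_mul_card_subgroup (Subgroup.zpowers z₁)
      rw [hn, hZcard] at h1
      have h2 : 0 < Nat.card (P ⧸ Subgroup.zpowers z₁) := Nat.card_pos
      calc Nat.card (P ⧸ Subgroup.zpowers z₁) < Nat.card (P ⧸ Subgroup.zpowers z₁) * p :=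
            lt_mul_of_one_lt_right h2 hp.out.one_lt
        _ = n := h1.symm
    obtain ⟨zb, xb, hzbc, hzbo, hxbp, hxbZ, hxbconj⟩ :=
      ih _ hlt (P ⧸ Subgroup.zpowers z₁) rfl (hP.to_quotient _) hcyc
    obtain ⟨w, rfl⟩ := QuotientGroup.mk_surjective zb
    obtain ⟨v, rfl⟩ := QuotientGroup.mk_surjective xb
    have hwZ : w ∉ Subgroup.zpowers z₁ := by
      intro h
      have h1 : (QuotientGroup.mk w : P ⧸ Subgroup.zpowers z₁) = 1 :=
        (QuotientGroup.eq_one_iff w).mpr h
      rw [h1, orderOf_one] at hzbo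
      exact hp.out.one_lt.ne hzbo
    have hwp : w ^ p ∈ Subgroup.zpowers z₁ := by
      have := pow_orderOf_eq_one (QuotientGroup.mk w : P ⧸ Subgroup.zpowers z₁)
      rw [hzbo] at this
      exact (QuotientGroup.eq_one_iff _).mp this
    have hwcen : ∀ (m : ℤ) (g : P ⧸ Subgroup.zpowers z₁),
        g * (QuotientGroup.mk w) ^ m = (QuotientGroup.mk w) ^ m * g :=
      fun m g => Subgroup.mem_center_iff.mp (Subgroup.zpow_mem _ hzbc m) g
    have hwc : ∀ y : P, w⁻¹ * (y * w * y⁻¹) ∈ Subgroup.zpowers z₁ := by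
      intro y
      rw [← QuotientGroup.eq_one_iff]
      have h1 := hwcen 1 (QuotientGroup.mk y)
      rw [zpow_one] at h1
      simp only [QuotientGroup.mk_mul, QuotientGroup.mk_inv]
      rw [h1, mul_inv_cancel_right, inv_mul_cancel]
    by_cases hwp1 : w ^ p = 1
    · exact ⟨z₁, w, hz₁c, hz₁o, hwp1, hwZ, hwc⟩
    · have hwo : orderOf w = p ^ 2 := by
        have h1 : orderOf w ∣ p ^ 2 :=
          orderOf_dvd_of_pow_eq_one (by rw [pow_two, pow_mul]; exact hZp _ hwp)
        obtain ⟨i, hi, hio⟩ := (Nat.dvd_prime_pow hp.out).mp h1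
        interval_cases i
        · exfalso; apply hwp1; rw [pow_zero, orderOf_eq_one_iff] at hio; rw [hio, one_pow]
        · exfalso; apply hwp1; rw [pow_one] at hio; rw [← hio]; exact pow_orderOf_eq_one w
        · exact hio
      have hwpo : orderOf (w ^ p) = p := orderOf_eq_prime (hZp _ hwp) hwp1
      have hZeq : Subgroup.zpowers (w ^ p) = Subgroup.zpowers z₁ :=
        Subgroup.eq_of_le_of_card_ge (Subgroup.zpowers_le.mpr hwp)
          (by rw [Nat.card_zpowers, Nat.card_zpowers, hwpo, hz₁o])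
      have hvp : v ^ p ∈ Subgroup.zpowers z₁ := (QuotientGroup.eq_one_iff _).mp hxbp
      obtain ⟨c, hc⟩ : ∃ c : ℤ, (w ^ p) ^ c = v ^ p := by
        rw [← hZeq] at hvp
        exact Subgroup.mem_zpowers_iff.mp hvp
      obtain ⟨x', hx'⟩ : ∃ x' : P, x' = v * w ^ (-c) := ⟨_, rfl⟩
      have hWc : ∀ (m : ℤ) (g : P), (g * w ^ m)⁻¹ * (w ^ m * g) ∈ Subgroup.zpowers z₁ := by
        intro m g
        rw [← QuotientGroup.eq_one_iff]
        simp only [QuotientGroup.mk_mul, QuotientGroup.mk_inv, QuotientGroup.mk_zpow]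
        rw [hwcen m (QuotientGroup.mk g), inv_mul_cancel]
      have hpow : ∀ (m : ℤ) (g : P), (g * w ^ m) ^ p = g ^ p * (w ^ m) ^ p := by
        intro m g
        have hs := hWc m g
        apply mul_pow_prime_of_central_comm hp.out hp2 (s := (g * w ^ m)⁻¹ * (w ^ m * g))
        · exact (mul_inv_cancel_left _ _).symm
        · exact (hZc _ hs g).symm
        · exact (hZc _ hs (w ^ m)).symm
        · exact hZp _ hs
      have hx'p : x' ^ p = 1 := by
        rw [hx', hpow, ← hc, ← zpow_natCast w p, ← zpow_mul, ← zpow_natCast (w ^ (-c)) p,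
          ← zpow_mul, ← zpow_add]
        have : (p : ℤ) * c + -c * (p : ℤ) = 0 := by ring
        rw [this, zpow_zero]
      have hx'Z : x' ∉ Subgroup.zpowers z₁ := by
        intro h
        apply hxbZ
        rw [Subgroup.mem_zpowers_iff]
        refine ⟨c, ?_⟩
        show ((w ^ c : P) : P ⧸ Subgroup.zpowers z₁) = ((v : P) : P ⧸ Subgroup.zpowers z₁)
        apply QuotientGroup.eq.mpr
        have h2 : (w ^ c)⁻¹ * v = (w ^ c)⁻¹ * x' * ((w ^ c)⁻¹)⁻¹ := by rw [hx']; group
        rw [h2]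
        exact hZn.conj_mem _ h _
      refine ⟨z₁, x', hz₁c, hz₁o, hx'p, hx'Z, ?_⟩
      intro y
      obtain ⟨k, hk⟩ := Subgroup.mem_zpowers_iff.mp (hxbconj (QuotientGroup.mk y))
      have hq : ((x'⁻¹ * (y * x' * y⁻¹) : P) : P ⧸ Subgroup.zpowers z₁) =
          ((w ^ k : P) : P ⧸ Subgroup.zpowers z₁) := by
        rw [hx']
        simp only [QuotientGroup.mk_mul, QuotientGroup.mk_inv, QuotientGroup.mk_zpow]
        rw [hk, hwcen (-c) (QuotientGroup.mk v), mul_inv_rev,
          ← mul_assoc (QuotientGroup.mk y) _ (QuotientGroup.mk v), hwcen (-c) (QuotientGroup.mk y)]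
        simp only [mul_assoc, inv_mul_cancel_left]
      have ht : (w ^ k)⁻¹ * (x'⁻¹ * (y * x' * y⁻¹)) ∈ Subgroup.zpowers z₁ :=
        QuotientGroup.eq.mp hq.symm
      have h1 : (x' * w ^ k * ((w ^ k)⁻¹ * (x'⁻¹ * (y * x' * y⁻¹)))) ^ p = 1 := by
        have : x' * w ^ k * ((w ^ k)⁻¹ * (x'⁻¹ * (y * x' * y⁻¹))) = y * x' * y⁻¹ := by group
        rw [this, conj_pow, hx'p, mul_one, mul_inv_cancel]
      have hcomm : Commute (x' * w ^ k) ((w ^ k)⁻¹ * (x'⁻¹ * (y * x' * y⁻¹))) := hZc _ ht _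
      rw [hcomm.mul_pow, hZp _ ht, mul_one, hpow, hx'p, one_mul] at h1
      have hdvd : (p : ℤ) ∣ k := by
        have h2 : w ^ (k * (p : ℤ)) = 1 := by rw [zpow_mul, zpow_natCast]; exact h1
        have h3 := orderOf_dvd_iff_zpow_eq_one.mpr h2
        rw [hwo] at h3
        push_cast at h3
        rw [pow_two] at h3
        exact Int.dvd_of_mul_dvd_mul_right (by exact_mod_cast hp.out.ne_zero) h3
      obtain ⟨k', rfl⟩ := hdvd
      have hwk : w ^ ((p : ℤ) * k') ∈ Subgroup.zpowers z₁ := by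
        rw [zpow_mul, zpow_natCast]; exact Subgroup.zpow_mem _ hwp k'
      have : x'⁻¹ * (y * x' * y⁻¹) =
          w ^ ((p : ℤ) * k') * ((w ^ ((p : ℤ) * k'))⁻¹ * (x'⁻¹ * (y * x' * y⁻¹))) :=
        (mul_inv_cancel_left _ _).symm
      rw [this]
      exact Subgroup.mul_mem _ hwk ht

/-- A noncyclic finite `p`-group, `p` odd, has a normal subgroup `⟨z₀, x⟩` of type `(p, p)` with
`z₀` central. -/
theorem exists_normal_rank_two {p : ℕ} [Fact p.Prime] (hp2 : p ≠ 2) {P : Type u} [Group P]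
    [Finite P] (hP : IsPGroup p P) (hnc : ¬ IsCyclic P) :
    ∃ z₀ x : P, z₀ ∈ Subgroup.center P ∧ orderOf z₀ = p ∧ x ^ p = 1 ∧
      x ∉ Subgroup.zpowers z₀ ∧ ∀ y : P, x⁻¹ * (y * x * y⁻¹) ∈ Subgroup.zpowers z₀ :=
  exists_normal_rank_two_aux hp2 _ P rfl hP hnc

end Cfsg.Agent.Lib.Helper20
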